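import Groth.Prelude.Def_Found
import Groth.Agent.L10.HullFinite
import Groth.Agent.L18.ValCritEss
import Groth.Agent.L04.MatlisHull
import Mathlib.RingTheory.Ideal.KrullsHeightTheorem
import Mathlib.RingTheory.Localization.Ideal
import Mathlib.RingTheory.Localization.Integer

/-! The primes of height one containing an element of a two-dimensional normal local domain. -/

set_option autoImplicit false
set_option linter.style.haveILetI false
set_option maxHeartbeats 1000000

universe u

noncomputable section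

namespace Groth.L05.H1Tors

open IsLocalRing

variable {A : Type u} [CommRing A] [IsDomain A] [IsLocalRing A] [IsNoetherianRing A]

theorem height_le_one (hdim : ringKrullDim A = 2) (q : Ideal A) [q.IsPrime] (hq : q ≠ maximalIdeal A) :
    q.height ≤ 1 := by
  have h := Ideal.height_strict_mono_of_isPrime (lt_of_le_of_ne (le_maximalIdeal (Ideal.IsPrime.ne_top ‹_›)) hq)
  have h2 : (maximalIdeal A).height = 2 := by
    have := IsLocalRing.maximalIdeal_height_eq_ringKrullDim (R := A)
    rw [hdim] at this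
    exact WithBot.coe_injective (this.trans rfl)
  rw [h2] at h
  exact Order.le_of_lt_add_one (α := ℕ∞) (by exact_mod_cast h)

theorem height_eq_one (hdim : ringKrullDim A = 2) (q : Ideal A) [q.IsPrime] (hq : q ≠ maximalIdeal A) (h0 : q ≠ ⊥) :
    q.height = 1 := by
  refine le_antisymm (height_le_one hdim q hq) ?_
  have h := Ideal.height_strict_mono_of_isPrime (bot_lt_iff_ne_bot.2 h0)
  rw [Ideal.height_bot] at h
  exact Order.one_le_iff_pos.2 h

theorem not_le_of_ne (hdim : ringKrullDim A = 2) {p q : Ideal A} [p.IsPrime] [q.IsPrime] (hp : p ≠ ⊥)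
    (hq : q ≠ maximalIdeal A) (hne : p ≠ q) : ¬ p ≤ q := fun h => by
  have h1 := Ideal.height_strict_mono_of_isPrime (lt_of_le_of_ne h hne)
  have hpm : p ≠ maximalIdeal A := fun hp' => hq (le_antisymm (le_maximalIdeal (Ideal.IsPrime.ne_top ‹_›)) (hp' ▸ h))
  rw [height_eq_one hdim p hpm hp] at h1
  exact absurd (height_le_one hdim q hq) (not_le.2 h1)

variable (a : A)

/-- The height one primes containing `a`. -/
abbrev Pr : Set (Ideal A) := {p ∈ (Ideal.span {a}).minimalPrimes | p ≠ maximalIdeal A}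

variable {a}

theorem mem_Pr (hdim : ringKrullDim A = 2) (ha : a ≠ 0) (q : Ideal A) [hq' : q.IsPrime] (hq : q ≠ maximalIdeal A)
    (haq : a ∈ q) : q ∈ Pr a := by
  refine ⟨⟨⟨hq', (Ideal.span_singleton_le_iff_mem _).2 haq⟩, fun p hp hpq => ?_⟩, hq⟩
  haveI := hp.1
  have hp0 : p ≠ ⊥ := fun h => ha (by simpa [h] using hp.2 (Ideal.mem_span_singleton_self a))
  exact (not_not.1 fun hne : ¬ p = q => not_le_of_ne hdim hp0 hq hne hpq).ge

theorem Pr_finite : (Pr a).Finite :=
  ((Ideal.finite_minimalPrimes_of_isNoetherianRing A _)).subset fun _ h => h.1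

/-- What is used about one of these primes: a parameter, its exponent in `a`, a multiplier regularising the
inverse powers of the parameter elsewhere and a conductor of the residue domain. -/
structure Datum (a : A) (p : Ideal A) where
  e : ℕ
  t : A
  c : A
  s₀ : A
  t_mem : t ∈ p
  t_ne : t ≠ 0
  gen : ∀ r ∈ p, ∃ u ∉ p, u * r ∈ Ideal.span {t}
  le : ∃ u ∉ p, u * a ∈ Ideal.span {t ^ e}
  ge : ∃ u ∉ p, u * t ^ e ∈ Ideal.span {a}
  c_notMem : c ∉ p
  s₀_notMem : s₀ ∉ p
  reg : ∀ k ≤ e, ∀ q : Ideal A, q.IsPrime → q ≠ maximalIdeal A → q ≠ p → ∃ u ∉ q, ∃ r, u * c = r * t ^ k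
  mul : ∀ k < e, ∃ g ∈ p, a * c = g * t ^ k
  cond : ∀ γ δ : A, δ ∉ p → ∀ (L : Type u) [Field L] (ψ : A →+* L), RingHom.ker ψ = p →
    ψ.IsIntegralElem (ψ γ / ψ δ) → ∃ r, s₀ * γ - r * δ ∈ p

theorem exists_conductor (hN : CAlg.IsNagata A) (p : Ideal A) [p.IsPrime] :
    ∃ s₀ ∉ p, ∀ γ δ : A, δ ∉ p → ∀ (L : Type u) [Field L] (ψ : A →+* L), RingHom.ker ψ = p →
      ψ.IsIntegralElem (ψ γ / ψ δ) → ∃ r, s₀ * γ - r * δ ∈ p := by
  classical
  haveI : Module.Finite (A ⧸ p) ↥(integralClosure (A ⧸ p) (FractionRing (A ⧸ p))) :=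
    (hN.2 p) (FractionRing (A ⧸ p)) inferInstance
  obtain ⟨S, hS⟩ := (Module.Finite.fg_top :
    (⊤ : Submodule (A ⧸ p) ↥(integralClosure (A ⧸ p) (FractionRing (A ⧸ p)))).FG)
  obtain ⟨d, hd⟩ := IsLocalization.exist_integer_multiples_of_finset (nonZeroDivisors (A ⧸ p))
    (S.image Subtype.val)
  obtain ⟨s₀, hs₀⟩ := Ideal.Quotient.mk_surjective (d : A ⧸ p)
  refine ⟨s₀, fun h => nonZeroDivisors.ne_zero d.2 (hs₀ ▸ Ideal.Quotient.eq_zero_iff_mem.2 h),
    fun γ δ hδ L _ ψ hψ hint => ?_⟩
  let q : A ⧸ p →+* L := Ideal.Quotient.lift p ψ fun b hb => RingHom.mem_ker.1 (hψ.symm ▸ hb)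
  have hq : Function.Injective q := (injective_iff_map_eq_zero _).2 fun b hb => by
    obtain ⟨b, rfl⟩ := Ideal.Quotient.mk_surjective b
    exact Ideal.Quotient.eq_zero_iff_mem.2 (hψ ▸ RingHom.mem_ker.2 hb)
  let j : FractionRing (A ⧸ p) →+* L := IsFractionRing.lift hq
  have hj : ∀ b : A, j (algebraMap (A ⧸ p) (FractionRing (A ⧸ p)) (Ideal.Quotient.mk p b)) = ψ b := fun b =>
    IsFractionRing.lift_algebraMap hq _
  let ρ : FractionRing (A ⧸ p) := algebraMap (A ⧸ p) _ (Ideal.Quotient.mk p γ) / algebraMap (A ⧸ p) _ (Ideal.Quotient.mk p δ)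
  have hρ : IsIntegral (A ⧸ p) ρ := by
    obtain ⟨P, hP, hP0⟩ := hint
    refine ⟨P.map (Ideal.Quotient.mk p), hP.map _, j.injective ?_⟩
    rw [map_zero, Polynomial.hom_eval₂, Polynomial.eval₂_map, ← hP0]
    congr 1
    · exact RingHom.ext hj
    · simp only [ρ, map_div₀, hj]
  have hmul : IsLocalization.IsInteger (A ⧸ p) ((d : A ⧸ p) • ρ) := by
    have h : (⟨ρ, hρ⟩ : ↥(integralClosure (A ⧸ p) (FractionRing (A ⧸ p)))) ∈ Submodule.span (A ⧸ p) (S : Set _) := by
      rw [hS]; trivial
    suffices H : ∀ z ∈ Submodule.span (A ⧸ p) (S : Set ↥(integralClosure (A ⧸ p) (FractionRing (A ⧸ p)))),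
        IsLocalization.IsInteger (A ⧸ p) ((d : A ⧸ p) • (z : FractionRing (A ⧸ p))) from H _ h
    intro z hz
    induction hz using Submodule.span_induction with
    | mem z hz => exact hd _ (Finset.mem_image_of_mem _ hz)
    | zero => simpa using IsLocalization.isInteger_zero
    | add x y _ _ hx hy =>
      show IsLocalization.IsInteger (A ⧸ p) ((d : A ⧸ p) • ((x : FractionRing (A ⧸ p)) + (y : FractionRing (A ⧸ p))))
      rw [smul_add]
      exact IsLocalization.isInteger_add hx hy
    | smul r x _ hx =>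
      rw [SetLike.val_smul, smul_comm]
      exact IsLocalization.isInteger_smul hx
  obtain ⟨r, hr⟩ := hmul
  obtain ⟨r, rfl⟩ := Ideal.Quotient.mk_surjective r
  refine ⟨r, Ideal.Quotient.eq.1 ?_⟩
  apply IsFractionRing.injective (A ⧸ p) (FractionRing (A ⧸ p))
  rw [map_mul, map_mul, map_mul, map_mul, hs₀, hr, Algebra.smul_def, mul_assoc,
    div_mul_cancel₀]
  rw [map_ne_zero_iff _ (IsFractionRing.injective (A ⧸ p) (FractionRing (A ⧸ p))), ne_eq,
    Ideal.Quotient.eq_zero_iff_mem]
  exact hδ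

variable [IsIntegrallyClosed A]

theorem exists_datum (hN : CAlg.IsNagata A) (hdim : ringKrullDim A = 2) (ha : a ≠ 0) (p : Ideal A)
    (hp : p ∈ Pr a) : Nonempty (Datum a p) := by
  classical
  haveI := hp.1.1.1
  have hap : a ∈ p := hp.1.1.2 (Ideal.mem_span_singleton_self a)
  have hp0 : p ≠ ⊥ := fun h => ha (by simpa [h] using hap)
  let L := Localization.AtPrime p
  haveI : IsDomain L := inferInstance
  haveI : IsIntegrallyClosed L := isIntegrallyClosed_of_isLocalization _ p.primeCompl p.primeCompl_le_nonZeroDivisors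
  haveI : IsDiscreteValuationRing L := Groth.L18.ValCritEss.isDVR_of_dim_one (by
    rw [IsLocalization.AtPrime.ringKrullDim_eq_height p L, height_eq_one hdim p hp.2 hp0]
    rfl)
  obtain ⟨π, hπ⟩ := IsDiscreteValuationRing.exists_irreducible L
  obtain ⟨t, u, rfl⟩ := IsLocalization.exists_mk'_eq p.primeCompl π
  have hinj : Function.Injective (algebraMap A L) := IsLocalization.injective L p.primeCompl_le_nonZeroDivisors
  have hunit : ∀ w : A, w ∉ p → IsUnit (algebraMap A L w) := fun w hw => IsLocalization.map_units L (⟨w, hw⟩ : p.primeCompl)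
  have hmax : maximalIdeal L = Ideal.span {algebraMap A L t} := by
    rw [hπ.maximalIdeal_eq, Ideal.span_singleton_eq_span_singleton]
    exact ⟨(hunit u u.2).unit, IsLocalization.mk'_spec L t u⟩
  have ht : t ∈ p := (IsLocalization.AtPrime.to_map_mem_maximal_iff L p t).1 (hmax ▸ Ideal.mem_span_singleton_self _)
  have hdesc : ∀ r y : A, algebraMap A L r ∈ Ideal.span {algebraMap A L y} → ∃ w ∉ p, w * r ∈ Ideal.span {y} := by
    intro r y h
    rw [← Set.image_singleton, ← Ideal.map_span,
      IsLocalization.algebraMap_mem_map_algebraMap_iff p.primeCompl] at h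
    exact h
  have ht0 : t ≠ 0 := fun h => by
    rw [h, map_zero, Ideal.span_singleton_eq_bot.2 rfl] at hmax
    exact IsDiscreteValuationRing.not_a_field L hmax
  obtain ⟨e, he⟩ := IsDiscreteValuationRing.associated_pow_irreducible
    ((map_ne_zero_iff _ hinj).2 ha) hπ
  have he' : Ideal.span {algebraMap A L a} = Ideal.span {algebraMap A L (t ^ e)} := by
    rw [map_pow, ← Ideal.span_singleton_pow, ← hmax, hπ.maximalIdeal_eq, Ideal.span_singleton_pow,
      Ideal.span_singleton_eq_span_singleton]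
    exact he
  -- the other primes through the parameter
  have hQfin : ((Ideal.span {t}).minimalPrimes \ {p, maximalIdeal A}).Finite :=
    (Ideal.finite_minimalPrimes_of_isNoetherianRing A _).sdiff
  have hQ : ∀ q : ↥((Ideal.span {t}).minimalPrimes \ {p, maximalIdeal A}), ∃ c ∉ p, ∃ u ∉ (q : Ideal A),
      u * c ∈ Ideal.span {t ^ e} := by
    rintro ⟨q, hq, hqne⟩
    haveI := hq.1.1
    simp only [Set.mem_insert_iff, Set.mem_singleton_iff, not_or] at hqne
    have hq0 : q ≠ ⊥ := fun h => ht0 (by simpa [h] using hq.1.2 (Ideal.mem_span_singleton_self t))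
    obtain ⟨b, hbq, hbp⟩ := SetLike.not_le_iff_exists.1 (not_le_of_ne hdim hq0 hp.2 hqne.1)
    let L' := Localization.AtPrime q
    have hrad : algebraMap A L' b ∈ ((Ideal.span {t ^ e}).map (algebraMap A L')).radical := by
      rw [Ideal.radical_eq_sInf, Submodule.mem_sInf]
      rintro P ⟨hP, hPp⟩
      haveI := hPp
      have hpr : (Ideal.comap (algebraMap A L') P).IsPrime := Ideal.comap_isPrime (algebraMap A L') P
      have hte : t ^ e ∈ Ideal.comap (algebraMap A L') P :=
        hP (Ideal.mem_map_of_mem (algebraMap A L') (Ideal.mem_span_singleton_self (t ^ e)))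
      have htP : t ∈ Ideal.comap (algebraMap A L') P := hpr.mem_of_pow_mem e hte
      have hle : Ideal.comap (algebraMap A L') P ≤ q := fun z hz => not_not.1 fun hzq =>
        hPp.ne_top (Ideal.eq_top_of_isUnit_mem _ hz (IsLocalization.map_units L' (⟨z, hzq⟩ : q.primeCompl)))
      exact hq.2 ⟨hpr, (Ideal.span_singleton_le_iff_mem _).2 htP⟩ hle hbq
    obtain ⟨n, hn⟩ := hrad
    rw [← map_pow, IsLocalization.algebraMap_mem_map_algebraMap_iff q.primeCompl] at hn
    exact ⟨b ^ n, fun h => hbp (Ideal.IsPrime.mem_of_pow_mem inferInstance n h), hn⟩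
  haveI := hQfin.fintype
  choose cq hcq uq huq hcu using hQ
  let c := ∏ q, cq q
  have hcp : c ∉ p := fun h => by
    obtain ⟨q, -, hq⟩ := (Ideal.IsPrime.prod_mem_iff (p := p)).1 h
    exact hcq q hq
  have hreg : ∀ k ≤ e, ∀ q : Ideal A, q.IsPrime → q ≠ maximalIdeal A → q ≠ p → ∃ u ∉ q, ∃ r, u * c = r * t ^ k := by
    intro k hk q hq hqm hqp
    haveI := hq
    by_cases htq : t ∈ q
    · obtain ⟨q', hq', hle⟩ := Ideal.exists_minimalPrimes_le ((Ideal.span_singleton_le_iff_mem q).2 htq)
      haveI := hq'.1.1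
      have hq'0 : q' ≠ ⊥ := fun h => ht0 (by simpa [h] using hq'.1.2 (Ideal.mem_span_singleton_self t))
      obtain rfl : q' = q := not_not.1 fun hne => not_le_of_ne hdim hq'0 hqm hne hle
      have hmem : q' ∈ (Ideal.span {t}).minimalPrimes \ {p, maximalIdeal A} := ⟨hq', by simp [hqp, hqm]⟩
      obtain ⟨r, hr⟩ := Ideal.mem_span_singleton'.1 (hcu ⟨q', hmem⟩)
      refine ⟨uq ⟨q', hmem⟩, huq ⟨q', hmem⟩, r * (∏ x ∈ Finset.univ.erase ⟨q', hmem⟩, cq x) * t ^ (e - k), ?_⟩
      rw [show c = cq ⟨q', hmem⟩ * ∏ x ∈ Finset.univ.erase ⟨q', hmem⟩, cq x from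
        (Finset.mul_prod_erase _ _ (Finset.mem_univ _)).symm, ← mul_assoc, ← hr, mul_assoc _ (t ^ (e - k)),
        ← pow_add, Nat.sub_add_cancel hk]
      ring
    · exact ⟨t ^ k, fun h => htq (Ideal.IsPrime.mem_of_pow_mem inferInstance k h), c, mul_comm _ _⟩
  have hmul : ∀ k < e, ∃ g ∈ p, a * c = g * t ^ k := by
    intro k hk
    have hk0 : algebraMap A (FractionRing A) (t ^ k) ≠ 0 :=
      (map_ne_zero_iff _ (IsFractionRing.injective A _)).2 (pow_ne_zero _ ht0)
    obtain ⟨g, hg⟩ := Groth.L10.Hull.mem_range_of_height_one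
      (algebraMap A (FractionRing A) (a * c) / algebraMap A (FractionRing A) (t ^ k)) fun q _ hq => by
        have hqm : q ≠ maximalIdeal A := fun h => by
          have := IsLocalRing.maximalIdeal_height_eq_ringKrullDim (R := A)
          rw [← h, hq, hdim] at this
          exact absurd this (by decide)
        obtain ⟨u, hu, r, hr⟩ : ∃ u ∉ q, ∃ r, u * (a * c) = r * t ^ k := by
          by_cases hqp : q = p
          · subst hqp
            obtain ⟨u, hu, hu'⟩ := hdesc a (t ^ e) (he' ▸ Ideal.mem_span_singleton_self _)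
            obtain ⟨r, hr⟩ := Ideal.mem_span_singleton'.1 hu'
            refine ⟨u, hu, r * c * t ^ (e - k), ?_⟩
            rw [← mul_assoc, ← hr, mul_assoc _ (t ^ (e - k)), ← pow_add, Nat.sub_add_cancel hk.le]
            ring
          · obtain ⟨u, hu, r, hr⟩ := hreg k hk.le q inferInstance hqm hqp
            exact ⟨u, hu, a * r, by linear_combination a * hr⟩
        refine ⟨u, hu, r, ?_⟩
        rw [← mul_div_assoc, ← map_mul, hr, map_mul, mul_div_assoc, div_self hk0, mul_one]
    rw [eq_div_iff hk0, ← map_mul] at hg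
    have hg' := IsFractionRing.injective A (FractionRing A) hg
    refine ⟨g, not_not.1 fun hgp => ?_, hg'.symm⟩
    -- otherwise the exponent of `a` would be at most `k`
    have h1 : algebraMap A L (t ^ k) ∈ Ideal.span {algebraMap A L (t ^ e)} := by
      rw [← he']
      have h2 : algebraMap A L (t ^ k) = algebraMap A L a * (algebraMap A L c * (↑(hunit g hgp).unit⁻¹ : L)) := by
        rw [← mul_assoc, ← map_mul, ← hg', map_mul, mul_assoc, mul_comm (algebraMap A L (t ^ k)),
          ← mul_assoc, IsUnit.mul_val_inv, one_mul]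
      exact Ideal.mem_span_singleton'.2 ⟨_, (mul_comm _ _).trans h2.symm⟩
    rw [map_pow, map_pow, Ideal.mem_span_singleton, pow_dvd_pow_iff ((map_ne_zero_iff _ hinj).2 ht0)
      (fun hu => (IsLocalRing.mem_maximalIdeal _).1 (hmax ▸ Ideal.mem_span_singleton_self (algebraMap A L t)) hu)] at h1
    omega
  obtain ⟨s₀, hs₀, hcond⟩ := exists_conductor hN p
  exact ⟨{
    e := e, t := t, c := c, s₀ := s₀, t_mem := ht, t_ne := ht0
    gen := fun r hr => hdesc r t (hmax ▸ (IsLocalization.AtPrime.to_map_mem_maximal_iff L p r).2 hr)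
    le := hdesc a _ (he' ▸ Ideal.mem_span_singleton_self _)
    ge := hdesc _ a (he' ▸ Ideal.mem_span_singleton_self _)
    c_notMem := hcp, s₀_notMem := hs₀, reg := hreg, mul := hmul, cond := hcond }⟩

omit [IsIntegrallyClosed A] in
/-- The elements divisible by `a` at `p`. -/
def Jp (a : A) (p : Ideal A) [p.IsPrime] : Ideal A := (Ideal.span {algebraMap A (Localization.AtPrime p) a}).comap (algebraMap A _)

omit [IsIntegrallyClosed A] [IsDomain A] [IsLocalRing A] [IsNoetherianRing A] in
theorem mem_Jp_iff {p : Ideal A} [p.IsPrime] {r : A} : r ∈ Jp a p ↔ ∃ u ∉ p, u * r ∈ Ideal.span {a} := by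
  rw [Jp, Ideal.mem_comap, ← Set.image_singleton, ← Ideal.map_span,
    IsLocalization.algebraMap_mem_map_algebraMap_iff p.primeCompl]
  rfl

omit [IsIntegrallyClosed A] in
/-- The bound: the product of the quotients modulo the diagonal is of finite length. -/
theorem length_ne_top (hdim : ringKrullDim A = 2) (ha : a ≠ 0) (s : ∀ p : ↥(Pr a), A)
    (hs : ∀ p : ↥(Pr a), s p ∉ (p : Ideal A)) :
    haveI : ∀ p : ↥(Pr a), (p : Ideal A).IsPrime := fun p => p.2.1.1.1
    Module.length A ((∀ p : ↥(Pr a), A ⧸ Jp a (p : Ideal A)) ⧸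
      LinearMap.range (LinearMap.pi fun p : ↥(Pr a) => (Submodule.mkQ (Jp a (p : Ideal A))).comp
        (LinearMap.mulLeft A (s p)))) ≠ ⊤ := by
  classical
  haveI : ∀ p : ↥(Pr a), (p : Ideal A).IsPrime := fun p => p.2.1.1.1
  haveI := (Pr_finite (a := a)).fintype
  let Δ := LinearMap.range (LinearMap.pi fun p : ↥(Pr a) => (Submodule.mkQ (Jp a (p : Ideal A))).comp
    (LinearMap.mulLeft A (s p)))
  let I := (Δ.colon Set.univ : Ideal A)
  have hI : maximalIdeal A ≤ I.radical := by
    rw [Ideal.radical_eq_sInf]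
    refine le_sInf fun q ⟨hIq, hq⟩ => ?_
    haveI := hq
    by_contra hqm
    have hqm' : q ≠ maximalIdeal A := fun h => hqm h.ge
    -- an element outside `q` kills everything modulo the diagonal
    obtain ⟨u, hu, hu'⟩ : ∃ u ∉ q, ∀ p : ↥(Pr a), (p : Ideal A) ≠ q → u ∈ Jp a (p : Ideal A) := by
      have : ∀ p : ↥(Pr a), ∃ u ∉ q, (p : Ideal A) ≠ q → u ∈ Jp a (p : Ideal A) := by
        intro p
        by_cases hpq : (p : Ideal A) = q
        · exact ⟨1, fun h => hq.ne_top ((Ideal.eq_top_iff_one _).2 h), fun h => absurd hpq h⟩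
        have hp0 : (p : Ideal A) ≠ ⊥ := fun h => ha (by
          simpa [h] using p.2.1.1.2 (Ideal.mem_span_singleton_self a))
        obtain ⟨b, hbp, hbq⟩ := SetLike.not_le_iff_exists.1 (not_le_of_ne hdim hp0 hqm' hpq)
        have hr : b ∈ (Jp a (p : Ideal A)).radical := by
          rw [Ideal.radical_eq_sInf, Submodule.mem_sInf]
          rintro P ⟨hP, hPp⟩
          haveI := hPp
          by_contra hbP
          have haP : a ∈ P := hP (mem_Jp_iff.2 ⟨1, fun h => p.2.1.1.1.ne_top ((Ideal.eq_top_iff_one _).2 h), by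
            simpa using Ideal.mem_span_singleton_self a⟩)
          have hPle : ¬ P ≤ (p : Ideal A) := fun h => hbP (p.2.1.2 ⟨hPp, (Ideal.span_singleton_le_iff_mem _).2 haP⟩ h hbp)
          obtain ⟨w, hwP, hwp⟩ := SetLike.not_le_iff_exists.1 hPle
          obtain ⟨n, hn⟩ : ∃ n, b ^ n ∈ Jp a (p : Ideal A) := by
            have h' : algebraMap A (Localization.AtPrime (p : Ideal A)) b ∈
                (Ideal.span {algebraMap A (Localization.AtPrime (p : Ideal A)) a}).radical := by
              rw [Ideal.radical_eq_sInf, Submodule.mem_sInf]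
              rintro Q ⟨hQ, hQp⟩
              haveI := hQp
              have hpr : (Ideal.comap (algebraMap A (Localization.AtPrime (p : Ideal A))) Q).IsPrime := Ideal.comap_isPrime _ Q
              have hle : Ideal.comap (algebraMap A (Localization.AtPrime (p : Ideal A))) Q ≤ (p : Ideal A) := fun z hz => not_not.1 fun hzq =>
                hQp.ne_top (Ideal.eq_top_of_isUnit_mem _ hz (IsLocalization.map_units (Localization.AtPrime (p : Ideal A)) (⟨z, hzq⟩ : (p : Ideal A).primeCompl)))
              exact p.2.1.2 ⟨hpr, (Ideal.span_singleton_le_iff_mem _).2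
                (hQ (Ideal.mem_span_singleton_self _))⟩ hle hbp
            obtain ⟨n, hn⟩ := h'
            exact ⟨n, by rw [Jp, Ideal.mem_comap, map_pow]; exact hn⟩
          exact hbP (hPp.mem_of_pow_mem n (hP hn))
        obtain ⟨n, hn⟩ := hr
        exact ⟨b ^ n, fun h => hbq (hq.mem_of_pow_mem n h), fun _ => hn⟩
      choose u hu hu' using this
      refine ⟨∏ p, u p, fun h => ?_, fun p hp => ?_⟩
      · obtain ⟨p, -, h⟩ := (Ideal.IsPrime.prod_mem_iff (p := q)).1 h
        exact hu p h
      · rw [← Finset.mul_prod_erase _ _ (Finset.mem_univ p)]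
        exact Ideal.mul_mem_right _ _ (hu' p hp)
    by_cases hqP : q ∈ Pr a
    · -- at one of the primes
      let p₀ : ↥(Pr a) := ⟨q, hqP⟩
      have : u * s p₀ ∈ I := by
        refine Submodule.mem_colon.2 fun v _ => ?_
        obtain ⟨b, hb⟩ := Submodule.Quotient.mk_surjective _ (v p₀)
        refine ⟨u * b, funext fun p => ?_⟩
        show Submodule.Quotient.mk (s p * (u * b)) = (u * s p₀) • v p
        obtain ⟨bp, hbp⟩ := Submodule.Quotient.mk_surjective _ (v p)
        rw [← hbp, ← Submodule.Quotient.mk_smul, smul_eq_mul]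
        by_cases hp : p = p₀
        · subst hp
          have e : (Submodule.Quotient.mk b : A ⧸ Jp a (p₀ : Ideal A)) = Submodule.Quotient.mk bp := hb.trans hbp.symm
          rw [Submodule.Quotient.eq] at e ⊢
          have := Ideal.mul_mem_left _ (s p₀ * u) e
          convert! this using 1
          ring
        · have hz : (p : Ideal A) ≠ q := fun h => hp (Subtype.ext h)
          rw [Submodule.Quotient.eq]
          exact Ideal.sub_mem _ (Ideal.mul_mem_left _ _ (Ideal.mul_mem_right _ _ (hu' p hz)))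
            (Ideal.mul_mem_right _ _ (Ideal.mul_mem_right _ _ (hu' p hz)))
      rcases hq.mem_or_mem (hIq this) with h | h
      · exact hu h
      · exact hs p₀ h
    · refine hu (hIq (Submodule.mem_colon.2 fun v _ => ⟨0, ?_⟩))
      rw [map_zero]
      funext p
      obtain ⟨bp, hbp⟩ := Submodule.Quotient.mk_surjective _ (v p)
      show 0 = u • v p
      rw [← hbp, ← Submodule.Quotient.mk_smul, eq_comm, Submodule.Quotient.mk_eq_zero, smul_eq_mul]
      exact Ideal.mul_mem_right _ _ (hu' p fun h => hqP (h ▸ p.2))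
  obtain ⟨n, hn⟩ := Ideal.exists_pow_le_of_le_radical_of_fg hI (IsNoetherian.noetherian _)
  refine Module.length_ne_top_iff.2 (Groth.L04.isFiniteLength_of_finite (N := n) fun x hx z => ?_)
  obtain ⟨v, rfl⟩ := Submodule.Quotient.mk_surjective _ z
  rw [← Submodule.Quotient.mk_smul, Submodule.Quotient.mk_eq_zero]
  exact Submodule.mem_colon.1 (hn hx) v trivial

end Groth.L05.H1Tors
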