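import Groth.Agent.L05.H1Tors.Algebra
import Groth.Agent.L05.FibreFactor.Negativity
import Groth.Agent.L05.RatPow.Basic
import Groth.Agent.L21.RR.Coh

/-! The torsion of `H¹` of the modifications of a two-dimensional normal local domain is bounded. -/

set_option autoImplicit false
set_option linter.style.haveILetI false
set_option maxHeartbeats 2000000
set_option backward.isDefEq.respectTransparency false
set_option backward.isDefEq.respectTransparency.types false

universe u

open CategoryTheory CategoryTheory.Limits AlgebraicGeometry TopologicalSpace Opposite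
open Groth.L18.Frame (rs rs_rs)
open Groth.L21.RR (st one oneSec st_germ bijective_smul_one)
open Groth.L05.FibreFactor (χ comap_χ algebraMap_χ algebraMap_stalkSpecializes χ_genericPoint_injective)

noncomputable section

namespace Groth.L05.H1Tors

variable {A : Type u} [CommRing A] [IsDomain A] [IsLocalRing A] [IsNoetherianRing A] [IsIntegrallyClosed A]
  {X : Scheme.{u}} [IsIntegral X] [X.Over (Spec (CommRingCat.of A))] [IsProper (X ↘ Spec (CommRingCat.of A))]

local notation "cl" => IsLocalRing.closedPoint A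

variable (A X) in
/-- The structure map. -/
abbrev π₀ : X ⟶ Spec (CommRingCat.of A) := X ↘ Spec (CommRingCat.of A)

omit [IsDomain A] [IsLocalRing A] [IsNoetherianRing A] [IsIntegrallyClosed A] [IsProper (X ↘ Spec (CommRingCat.of A))] in
theorem stalkSpecializes_χ {y η : X} (h : η ⤳ y) (r : A) :
    (X.presheaf.stalkSpecializes h).hom (χ (π₀ A X) y r) = χ (π₀ A X) η r :=
  TopCat.Presheaf.germ_stalkSpecializes_apply X.presheaf (show y ∈ (⊤ : X.Opens) from trivial) h _

variable (hdim : ringKrullDim A = 2) (hn : Pi1.IsNormalScheme X)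
  (hbir : Groth.L05.MinDesing.IsBir (π₀ A X))

include hdim hbir in
/-- Off the closed fibre the modification changes nothing. -/
theorem exists_open : ∃ V : (Spec (CommRingCat.of A)).Opens, IsIso ((π₀ A X) ∣_ V) ∧
    ∀ q : Spec (CommRingCat.of A), q ≠ (cl : Spec (CommRingCat.of A)) → q ∈ V := by
  obtain ⟨U, hU, hUi⟩ := id hbir
  haveI := hUi
  obtain ⟨hξ, hbij⟩ := Groth.L13.RatSing.birational_of_isIso_restrict (π₀ A X) U hU
  have hS : Pi1.IsNormalScheme (Spec (CommRingCat.of A)) := Groth.L05.NeronFinite.isNormalScheme_spec fun P _ =>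
    ⟨inferInstance, isIntegrallyClosed_of_isLocalization _ P.primeCompl P.primeCompl_le_nonZeroDivisors⟩
  obtain ⟨V, hVi, -, hV⟩ := Groth.Agent.S11555.result (π₀ A X) hS hξ hbij
  refine ⟨V, hVi, fun q hq => not_not.1 fun h => ?_⟩
  have h2 := hV q h
  letI : Algebra A ((Spec (CommRingCat.of A)).presheaf.stalk q) :=
    inferInstanceAs (Algebra A ((Spec.structureSheaf A).presheaf.stalk q))
  haveI : IsLocalization.AtPrime ((Spec (CommRingCat.of A)).presheaf.stalk q) (q : PrimeSpectrum A).asIdeal :=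
    StructureSheaf.IsLocalization.to_stalk A q
  rw [IsLocalization.AtPrime.ringKrullDim_eq_height (q : PrimeSpectrum A).asIdeal] at h2
  have h3 := height_le_one hdim (q : PrimeSpectrum A).asIdeal fun h' => hq (PrimeSpectrum.ext h')
  exact absurd (h2.trans (WithBot.coe_le_coe.2 h3)) (by decide)

include hdim hbir in
theorem isLocalization_χ {y : X} (hy : (π₀ A X) y ≠ (cl : Spec (CommRingCat.of A))) :
    letI := (χ (π₀ A X) y).toAlgebra
    IsLocalization.AtPrime (X.presheaf.stalk y) (((π₀ A X) y : Spec (CommRingCat.of A)) : PrimeSpectrum A).asIdeal := by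
  obtain ⟨V, hVi, hV⟩ := exists_open hdim hbir
  haveI := hVi
  let f := π₀ A X
  haveI : IsIso (f.stalkMap y) :=
    ((MorphismProperty.isomorphisms CommRingCat.{u}).arrow_mk_iso_iff
      (morphismRestrictStalkMap f V ⟨y, hV _ hy⟩)).1 (inferInstanceAs (IsIso ((f ∣_ V).stalkMap ⟨y, hV _ hy⟩)))
  letI : Algebra A ((Spec (CommRingCat.of A)).presheaf.stalk (f y)) :=
    inferInstanceAs (Algebra A ((Spec.structureSheaf A).presheaf.stalk (f y)))
  haveI : IsLocalization.AtPrime ((Spec (CommRingCat.of A)).presheaf.stalk (f y)) ((f y : Spec (CommRingCat.of A)) : PrimeSpectrum A).asIdeal :=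
    StructureSheaf.IsLocalization.to_stalk A (f y)
  letI := (χ f y).toAlgebra
  have hcomp : ∀ r : A, f.stalkMap y (algebraMap A ((Spec (CommRingCat.of A)).presheaf.stalk (f y)) r) = χ f y r := by
    intro r
    show f.stalkMap y ((Spec (CommRingCat.of A)).presheaf.germ ⊤ (f y) trivial
      ((Scheme.ΓSpecIso (CommRingCat.of A)).inv r)) = _
    rw [Scheme.Hom.germ_stalkMap_apply]
    rfl
  exact IsLocalization.isLocalization_of_algEquiv _
    (AlgEquiv.ofRingEquiv (f := (asIso (f.stalkMap y)).commRingCatIsoToRingEquiv) hcomp)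

include hdim hbir in
theorem exists_point (p : Ideal A) [hp : p.IsPrime] (hpm : p ≠ IsLocalRing.maximalIdeal A) :
    ∃ x : X, (π₀ A X) x = (⟨p, hp⟩ : PrimeSpectrum A) := by
  obtain ⟨V, hVi, hV⟩ := exists_open hdim hbir
  haveI := hVi
  obtain ⟨z, hz⟩ := ((π₀ A X) ∣_ V).homeomorph.surjective
    ⟨(⟨p, hp⟩ : PrimeSpectrum A), hV _ fun h => hpm (congrArg PrimeSpectrum.asIdeal h)⟩
  exact ⟨z.1, (morphismRestrict_base_coe _ V z).symm.trans (congrArg Subtype.val hz)⟩

include hdim hbir in
theorem eq_of_apply_eq {y y' : X} (hy : (π₀ A X) y ≠ (cl : Spec (CommRingCat.of A)))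
    (h : (π₀ A X) y = (π₀ A X) y') : y = y' := by
  obtain ⟨V, hVi, hV⟩ := exists_open hdim hbir
  haveI := hVi
  exact congrArg Subtype.val (((π₀ A X) ∣_ V).homeomorph.injective
    (a₁ := ⟨y, hV _ hy⟩) (a₂ := ⟨y', hV _ (h ▸ hy)⟩)
    (Subtype.ext (Eq.trans (morphismRestrict_base_coe _ V _) (Eq.trans h (morphismRestrict_base_coe _ V ⟨y', hV _ (h ▸ hy)⟩).symm))))

omit [IsDomain A] [IsLocalRing A] [IsNoetherianRing A] [IsIntegrallyClosed A] [IsIntegral X] [IsProper (X ↘ Spec (CommRingCat.of A))] in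
theorem isUnit_χ {y : X} {r : A} (hr : r ∉ (((π₀ A X) y : Spec (CommRingCat.of A)) : PrimeSpectrum A).asIdeal) :
    IsUnit (χ (π₀ A X) y r) := by
  by_contra h
  refine hr ?_
  have e := comap_χ (π₀ A X) (x := y) (IsLocalRing.closedPoint (X.presheaf.stalk y))
  rw [Scheme.fromSpecStalk_closedPoint] at e
  rw [e]
  exact (IsLocalRing.mem_maximalIdeal _).2 h

include hbir in
theorem χ_ne_zero (y : X) {r : A} (hr : r ≠ 0) : χ (π₀ A X) y r ≠ 0 := fun h =>
  hr (χ_genericPoint_injective (π₀ A X) hbir (by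
    rw [map_zero, ← algebraMap_χ (π₀ A X) y, h, map_zero]))

variable (a : A)

variable (X) in
/-- Multiplication by `a`. -/
abbrev μ : Coh.structureModule X ⟶ Coh.structureModule X := Groth.L05.RatPow.mulBy (Coh.toGlobal (π₀ A X) a)

variable (X) in
/-- The quotient by `a`. -/
abbrev Q : X.Modules := cokernel (μ X a)

variable {a}

omit [IsDomain A] [IsLocalRing A] [IsNoetherianRing A] [IsIntegrallyClosed A] [IsIntegral X] [IsProper (X ↘ Spec (CommRingCat.of A))] in
theorem st_π_eq_zero_iff (y : X) (b : X.presheaf.stalk y) :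
    st (cokernel.π (μ X a)) y (b • one X y) = 0 ↔ ∃ m, b = χ (π₀ A X) y a * m := by
  have hex : ((ShortComplex.mk (μ X a) (cokernel.π _) (cokernel.condition _)).map (Groth.L00.Stk.F X y)).Exact :=
    ((ShortComplex.mk (μ X a) (cokernel.π _) (cokernel.condition _)).exact_of_g_is_cokernel (cokernelIsCokernel _)).map _
  constructor
  · intro h
    obtain ⟨o, ho⟩ := (ShortComplex.moduleCat_exact_iff _).1 hex _ h
    obtain ⟨m, rfl⟩ := (bijective_smul_one y).2 o
    refine ⟨m, (bijective_smul_one y).1 ?_⟩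
    rw [mul_comm]
    exact ho.symm.trans (Groth.L05.RatPow.st_mulBy_smul _ y m)
  · rintro ⟨m, rfl⟩
    rw [mul_comm, show (m * χ (π₀ A X) y a) • one X y = st (μ X a) y (m • one X y) from
      (Groth.L05.RatPow.st_mulBy_smul _ y m).symm, ← Groth.L21.RR.st_comp, cokernel.condition]
    show ((Groth.L00.Stk.F X y).map (0 : Coh.structureModule X ⟶ Q X a)).hom _ = 0
    rw [Functor.map_zero]
    rfl

/-- A lift of the germ of a section of the quotient. -/
def IsComp (t : Γ(Q X a, ⊤)) (y : X) (b : X.presheaf.stalk y) : Prop :=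
  st (cokernel.π (μ X a)) y (b • one X y) = (Q X a).presheaf.germ ⊤ y trivial t

omit [IsDomain A] [IsLocalRing A] [IsNoetherianRing A] [IsIntegrallyClosed A] [IsIntegral X] [IsProper (X ↘ Spec (CommRingCat.of A))] in
theorem IsComp.sub {t : Γ(Q X a, ⊤)} {y : X} {b b' : X.presheaf.stalk y} (h : IsComp t y b) (h' : IsComp t y b') :
    ∃ m, b - b' = χ (π₀ A X) y a * m := by
  rw [← st_π_eq_zero_iff, sub_smul, map_sub, h, h', sub_self]

omit [IsDomain A] [IsLocalRing A] [IsNoetherianRing A] [IsIntegrallyClosed A] [IsIntegral X] [IsProper (X ↘ Spec (CommRingCat.of A))] in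
theorem exists_local_lift (t : Γ(Q X a, ⊤)) (x : X) : ∃ (W : X.Opens) (_ : x ∈ W) (h : Γ(X, W)),
    ∀ y (hy : y ∈ W), IsComp t y (X.presheaf.germ W y hy h) := by
  obtain ⟨m, hm⟩ := (Groth.L21.Mod.epi_iff_stalk_surjective (cokernel.π (μ X a))).1 inferInstance x
    ((Q X a).presheaf.germ ⊤ x trivial t)
  obtain ⟨V, hxV, m, rfl⟩ := TopCat.Presheaf.exists_germ_eq (Coh.structureModule X).presheaf m
  have h1 : ((Q X a).presheaf.germ V x hxV) ((cokernel.π (μ X a)).app V m) =
      (Q X a).presheaf.germ ⊤ x trivial t := (DerSch.stalkFunctor_map_germ x _ V hxV m).symm.trans hm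
  obtain ⟨W, hxW, i₁, i₂, heq⟩ := TopCat.Presheaf.germ_eq (Q X a).presheaf x hxV
    (show x ∈ (⊤ : X.Opens) from trivial) _ _ h1
  refine ⟨W, hxW, X.presheaf.map i₁.op (show Γ(X, V) from m), fun y hy => ?_⟩
  rw [IsComp, ← Groth.L21.RR.germ_eq_smul_one (X := X) hy, st_germ]
  have h2 := congrArg ((Q X a).presheaf.germ W y hy) heq
  rw [TopCat.Presheaf.germ_res_apply, TopCat.Presheaf.germ_res_apply] at h2
  refine Eq.trans ?_ h2
  rw [← TopCat.Presheaf.germ_res_apply (Q X a).presheaf i₁ y hy]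
  exact congrArg _ (ConcreteCategory.congr_hom ((cokernel.π (μ X a)).mapPresheaf.naturality i₁.op) m)

omit [IsDomain A] [IsLocalRing A] [IsNoetherianRing A] [IsIntegrallyClosed A] [IsIntegral X] [IsProper (X ↘ Spec (CommRingCat.of A))] in
theorem exists_isComp (t : Γ(Q X a, ⊤)) (y : X) : ∃ b, IsComp t y b :=
  let ⟨_, hy, _, h⟩ := exists_local_lift t y
  ⟨_, h y hy⟩

omit [IsDomain A] [IsLocalRing A] [IsNoetherianRing A] [IsIntegrallyClosed A] [IsIntegral X] [IsProper (X ↘ Spec (CommRingCat.of A))] in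
theorem IsComp.add {t t' : Γ(Q X a, ⊤)} {y : X} {b b' : X.presheaf.stalk y} (h : IsComp t y b)
    (h' : IsComp t' y b') : IsComp (t + t') y (b + b') := by
  rw [IsComp, add_smul, map_add, h, h', map_add]

omit [IsDomain A] [IsLocalRing A] [IsNoetherianRing A] [IsIntegrallyClosed A] [IsIntegral X] [IsProper (X ↘ Spec (CommRingCat.of A))] in
theorem IsComp.smul {t : Γ(Q X a, ⊤)} {y : X} {b : X.presheaf.stalk y} (h : IsComp t y b) (r : A) :
    IsComp ((show Γ(X, ⊤) from Coh.toGlobal (π₀ A X) r) • t) y (χ (π₀ A X) y r * b) := by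
  rw [IsComp, mul_smul, map_smul, h, Groth.L20.ModStalk.germ_smul]
  rfl

omit [IsDomain A] [IsLocalRing A] [IsNoetherianRing A] [IsIntegrallyClosed A] [IsIntegral X] [IsProper (X ↘ Spec (CommRingCat.of A))] in
theorem isComp_global (r : A) (y : X) :
    IsComp (a := a) ((cokernel.π (μ X a)).app ⊤ (show Γ(Coh.structureModule X, ⊤) from Coh.toGlobal (π₀ A X) r)) y
      (χ (π₀ A X) y r) := by
  rw [IsComp, show χ (π₀ A X) y r • one X y = (Coh.structureModule X).presheaf.germ ⊤ y trivial
    (show Γ(Coh.structureModule X, ⊤) from Coh.toGlobal (π₀ A X) r) from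
      (Groth.L21.RR.germ_eq_smul_one (X := X) (V := ⊤) trivial _).symm, st_germ]

include hdim hn hbir in
/-- The reduction of a component at a prime of height one to the image of the base. -/
theorem exists_rep {p : Ideal A} [p.IsPrime] (D : Datum a p) (hpm : p ≠ IsLocalRing.maximalIdeal A)
    {x : X} (hx : (π₀ A X) x = (⟨p, inferInstance⟩ : PrimeSpectrum A)) :
    ∀ (n : ℕ) (k : ℕ), k + n = D.e → ∀ (t : Γ(Q X a, ⊤)) (b : X.presheaf.stalk x),
      IsComp t x (χ (π₀ A X) x (D.t ^ k) * b) →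
        ∃ r m, χ (π₀ A X) x ((D.s₀ * D.c) ^ n) * (χ (π₀ A X) x (D.t ^ k) * b) =
          χ (π₀ A X) x r + χ (π₀ A X) x a * m := by
  have hxne : (π₀ A X) x ≠ (cl : Spec (CommRingCat.of A)) := fun h => hpm (by
    rw [hx] at h; exact congrArg PrimeSpectrum.asIdeal h)
  have hup : ∀ u ∉ p, IsUnit (χ (π₀ A X) x u) := fun u hu => isUnit_χ (by rw [hx]; exact hu)
  letI := (χ (π₀ A X) x).toAlgebra
  haveI hloc : IsLocalization.AtPrime (X.presheaf.stalk x) p := by
    have h := isLocalization_χ hdim hbir hxne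
    rw [hx] at h
    exact h
  intro n
  induction n with
  | zero =>
    intro k hk t b _
    obtain rfl : k = D.e := by omega
    obtain ⟨u, hu, hu'⟩ := D.ge
    obtain ⟨r, hr⟩ := Ideal.mem_span_singleton'.1 hu'
    refine ⟨0, χ (π₀ A X) x r * (↑(hup u hu).unit⁻¹ : X.presheaf.stalk x) * b, ?_⟩
    rw [pow_zero, map_one, one_mul, map_zero, zero_add, ← mul_assoc, ← mul_assoc, ← map_mul, mul_comm a r, hr,
      map_mul, mul_comm (χ (π₀ A X) x u), mul_assoc _ _ (↑(hup u hu).unit⁻¹ : X.presheaf.stalk x),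
      IsUnit.mul_val_inv, mul_one]
  | succ n ih =>
    intro k hk t b hb
    have hke : k < D.e := by omega
    choose W hxW h hh using fun y : X => exists_local_lift t y
    let φ : A →+* X.functionField := χ (π₀ A X) (genericPoint X)
    have hφ : ∀ y (r : A), algebraMap (X.presheaf.stalk y) X.functionField (χ (π₀ A X) y r) = φ r :=
      fun y r => algebraMap_χ (π₀ A X) y r
    have htk : φ (D.t ^ k) ≠ 0 := fun h => pow_ne_zero k D.t_ne
      (χ_genericPoint_injective (π₀ A X) hbir (h.trans (map_zero _).symm))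
    haveI : ∀ y, Nonempty (W y) := fun y => ⟨⟨y, hxW y⟩⟩
    let H : X → X.functionField := fun y => X.germToFunctionField (W y) (h y)
    have hH : ∀ z y (hy : y ∈ W z), algebraMap (X.presheaf.stalk y) X.functionField (X.presheaf.germ (W z) y hy (h z)) = H z :=
      fun z y hy => Scheme.algebraMap_germ_eq_germToFunctionField X hy _
    let Z : X → X.functionField := fun y => φ D.c * H y / φ (D.t ^ k)
    obtain ⟨g, hgp, hg⟩ := D.mul k hke
    have hdiff : ∀ z z' y, y ∈ W z → y ∈ W z' → ∃ m, Z z - Z z' = algebraMap (X.presheaf.stalk y) X.functionField (χ (π₀ A X) y g * m) := by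
      intro z z' y hy hy'
      obtain ⟨m, hm⟩ := (hh z y hy).sub (hh z' y hy')
      refine ⟨m, ?_⟩
      have h' := congrArg (algebraMap (X.presheaf.stalk y) X.functionField) hm
      rw [map_sub, hH, hH, map_mul, hφ] at h'
      have h'' := congrArg φ hg
      rw [map_mul, map_mul] at h''
      simp only [Z]
      rw [map_mul, hφ, ← sub_div, div_eq_iff htk, ← mul_sub, h']
      linear_combination (algebraMap (X.presheaf.stalk y) X.functionField m) * h''
    have hreg : ∀ z y, y ∈ W z → (π₀ A X) y ≠ (cl : Spec (CommRingCat.of A)) →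
        Z z ∈ Set.range (algebraMap (X.presheaf.stalk y) X.functionField) := by
      intro z y hy hne
      let q : Ideal A := (((π₀ A X) y : Spec (CommRingCat.of A)) : PrimeSpectrum A).asIdeal
      by_cases hqp : q = p
      · obtain rfl : y = x := eq_of_apply_eq hdim hbir hne ((PrimeSpectrum.ext hqp).trans hx.symm)
        obtain ⟨m, hm⟩ := (hh z y hy).sub hb
        obtain ⟨u, hu, hu'⟩ := D.le
        obtain ⟨r, hr⟩ := Ideal.mem_span_singleton'.1 hu'
        have hr' : u * a = r * D.t ^ (D.e - k) * D.t ^ k := by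
          rw [mul_assoc, ← pow_add, Nat.sub_add_cancel hke.le, hr]
        refine ⟨χ (π₀ A X) y D.c * (b + χ (π₀ A X) y (r * D.t ^ (D.e - k)) * (↑(hup u hu).unit⁻¹ : X.presheaf.stalk y) * m), ?_⟩
        simp only [Z]
        rw [eq_div_iff htk, ← hφ y D.c, ← hφ y (D.t ^ k), ← hH z y hy, ← map_mul, ← map_mul]
        congr 1
        have e1 : χ (π₀ A X) y a = χ (π₀ A X) y (r * D.t ^ (D.e - k)) * (↑(hup u hu).unit⁻¹ : X.presheaf.stalk y) *
            χ (π₀ A X) y (D.t ^ k) := by
          rw [mul_right_comm, ← map_mul, ← hr', map_mul, mul_comm (χ (π₀ A X) y u), mul_assoc,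
            IsUnit.mul_val_inv, mul_one]
        linear_combination (-(χ (π₀ A X) y D.c)) * hm - (χ (π₀ A X) y D.c * m) * e1
      · obtain ⟨u, hu, r, hr⟩ := D.reg k hke.le q (((π₀ A X) y : Spec (CommRingCat.of A)) : PrimeSpectrum A).2
          (fun h => hne (PrimeSpectrum.ext h)) hqp
        refine ⟨χ (π₀ A X) y r * (↑(isUnit_χ hu).unit⁻¹ : X.presheaf.stalk y) * X.presheaf.germ (W z) y hy (h z), ?_⟩
        simp only [Z]
        rw [eq_div_iff htk, ← hφ y D.c, ← hφ y (D.t ^ k), ← hH z y hy, ← map_mul, ← map_mul]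
        congr 1
        have e1 : χ (π₀ A X) y D.c = χ (π₀ A X) y r * χ (π₀ A X) y (D.t ^ k) * (↑(isUnit_χ hu).unit⁻¹ : X.presheaf.stalk y) := by
          rw [← map_mul, ← hr, map_mul, mul_comm (χ (π₀ A X) y u), mul_assoc, IsUnit.mul_val_inv, mul_one]
        rw [e1]
        ring
    have hneg : ∀ z y, y ∈ W z → Z z ∈ Set.range (algebraMap (X.presheaf.stalk y) X.functionField) :=
      Groth.L05.FibreFactor.negativity (π₀ A X) hdim hn hbir W (fun y => ⟨y, hxW y⟩) Z hreg fun z z' y hy hy' => by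
        obtain ⟨m, hm⟩ := hdiff z z' y hy hy'
        exact ⟨_, hm.symm⟩
    -- the leading coefficient
    let κ := X.residueField x
    let res : X.presheaf.stalk x →+* κ := (X.residue x).hom
    have hψker : RingHom.ker (res.comp (χ (π₀ A X) x)) = p := by
      have e := comap_χ (π₀ A X) (x := x) (IsLocalRing.closedPoint (X.presheaf.stalk x))
      rw [Scheme.fromSpecStalk_closedPoint, hx] at e
      refine Eq.trans ?_ e.symm
      ext r
      rw [RingHom.mem_ker, Ideal.mem_comap]
      exact IsLocalRing.residue_eq_zero_iff _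
    have hgres : res (χ (π₀ A X) x g) = 0 := RingHom.mem_ker.1 (hψker.ge hgp)
    have hlead : ((X.residue x).hom.comp (χ (π₀ A X) x)).IsIntegralElem (res (χ (π₀ A X) x D.c * b)) := by
      refine Groth.L05.FibreFactor.isIntegralElem_of_forall_center (π₀ A X) x _ fun y hy => ?_
      obtain ⟨β, hβ⟩ := hneg y y (hxW y)
      refine ⟨β, ?_⟩
      have hxWy : x ∈ W y := hy.mem_open (W y).2 (hxW y)
      obtain ⟨m, hm⟩ := (hh y x hxWy).sub hb
      have e : (X.presheaf.stalkSpecializes hy).hom β = χ (π₀ A X) x D.c * b + χ (π₀ A X) x g * m := by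
        refine IsFractionRing.injective _ X.functionField ?_
        rw [algebraMap_stalkSpecializes, hβ, map_add, map_mul, map_mul, hφ, hφ]
        have h' := congrArg (algebraMap (X.presheaf.stalk x) X.functionField) hm
        rw [map_sub, hH, map_mul, map_mul, hφ, hφ] at h'
        have h'' := congrArg φ hg
        rw [map_mul, map_mul] at h''
        simp only [Z]
        rw [div_eq_iff htk]
        linear_combination (φ D.c) * h' + (algebraMap (X.presheaf.stalk x) X.functionField m) * h''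
      show res ((X.presheaf.stalkSpecializes hy).hom β) = res (χ (π₀ A X) x D.c * b)
      rw [e, map_add, map_mul _ (χ (π₀ A X) x g), hgres, zero_mul, add_zero]
    obtain ⟨γ, δ, hb'⟩ := IsLocalization.exists_mk'_eq p.primeCompl b
    have hbδ : b * χ (π₀ A X) x δ = χ (π₀ A X) x γ := by rw [← hb']; exact IsLocalization.mk'_spec _ γ δ
    have hδres : res (χ (π₀ A X) x δ) ≠ 0 := fun h => δ.2 (hψker.le (RingHom.mem_ker.2 h))
    obtain ⟨r, hr⟩ := D.cond (D.c * γ) δ δ.2 κ (res.comp (χ (π₀ A X) x)) hψker (by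
      rw [show (res.comp (χ (π₀ A X) x)) (D.c * γ) / (res.comp (χ (π₀ A X) x)) δ = res (χ (π₀ A X) x D.c * b) from ?_]
      · exact hlead
      · show res (χ (π₀ A X) x (D.c * γ)) / res (χ (π₀ A X) x (δ : A)) = _
        rw [div_eq_iff hδres, map_mul (χ (π₀ A X) x), ← hbδ, ← map_mul]
        congr 1
        ring)
    -- one step further
    obtain ⟨u, hu, hu'⟩ := D.gen _ hr
    obtain ⟨v, hv⟩ := Ideal.mem_span_singleton'.1 hu'
    let b' : X.presheaf.stalk x := χ (π₀ A X) x v * (↑(hup u hu).unit⁻¹ : X.presheaf.stalk x) * (↑(hup δ δ.2).unit⁻¹ : X.presheaf.stalk x)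
    have hb'eq : χ (π₀ A X) x (D.t ^ (k + 1)) * b' =
        χ (π₀ A X) x (D.s₀ * D.c) * (χ (π₀ A X) x (D.t ^ k) * b) + χ (π₀ A X) x (-r * D.t ^ k) := by
      refine (((hup u hu).mul (hup δ δ.2)).mul_left_inj).1 ?_
      have hv' := congrArg (χ (π₀ A X) x) hv
      simp only [map_mul, map_sub] at hv'
      simp only [b', map_mul, map_pow, map_neg]
      have e1 := (hup u hu).val_inv_mul
      have e2 := (hup δ δ.2).val_inv_mul
      linear_combination (χ (π₀ A X) x D.t ^ k) * hv'
        - (χ (π₀ A X) x u * χ (π₀ A X) x D.s₀ * χ (π₀ A X) x D.c * χ (π₀ A X) x D.t ^ k) * hbδ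
        + (χ (π₀ A X) x D.t ^ (k + 1) * χ (π₀ A X) x v * (↑(hup δ δ.2).unit⁻¹ : X.presheaf.stalk x) * χ (π₀ A X) x (δ : A)) * e1
        + (χ (π₀ A X) x D.t ^ (k + 1) * χ (π₀ A X) x v) * e2
    obtain ⟨r', m', hr'⟩ := ih (k + 1) (by omega) _ b' (show IsComp
      ((show Γ(X, ⊤) from Coh.toGlobal (π₀ A X) (D.s₀ * D.c)) • t +
        (cokernel.π (μ X a)).app ⊤ (show Γ(Coh.structureModule X, ⊤) from Coh.toGlobal (π₀ A X) (-r * D.t ^ k))) x _ from by
        rw [hb'eq]
        exact (hb.smul _).add (isComp_global _ x))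
    refine ⟨r' + (D.s₀ * D.c) ^ n * (r * D.t ^ k), m', ?_⟩
    rw [hb'eq] at hr'
    simp only [map_mul, map_pow, map_add, map_neg] at hr' ⊢
    linear_combination hr'

include hdim hn hbir in
/-- A section of the quotient with trivial components is trivial. -/
theorem eq_zero_of_isComp (ha : a ≠ 0) (t : Γ(Q X a, ⊤))
    (h : ∀ p ∈ Pr a, ∀ x : X, (((π₀ A X) x : Spec (CommRingCat.of A)) : PrimeSpectrum A).asIdeal = p →
      ∀ b, IsComp t x b → ∃ m, b = χ (π₀ A X) x a * m) : t = 0 := by
  choose W hxW g hg using fun y : X => exists_local_lift t y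
  haveI : ∀ y, Nonempty (W y) := fun y => ⟨⟨y, hxW y⟩⟩
  let φ : A →+* X.functionField := χ (π₀ A X) (genericPoint X)
  have hφa : φ a ≠ 0 := fun h => ha (χ_genericPoint_injective (π₀ A X) hbir (h.trans (map_zero _).symm))
  let Z : X → X.functionField := fun y => X.germToFunctionField (W y) (g y) / φ a
  have hG : ∀ z y (hy : y ∈ W z), algebraMap (X.presheaf.stalk y) X.functionField (X.presheaf.germ (W z) y hy (g z)) =
      X.germToFunctionField (W z) (g z) := fun z y hy => Scheme.algebraMap_germ_eq_germToFunctionField X hy _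
  have hneg := Groth.L05.FibreFactor.negativity (π₀ A X) hdim hn hbir W (fun y => ⟨y, hxW y⟩) Z
    (fun z y hy hne => by
      by_cases hay : a ∈ (((π₀ A X) y : Spec (CommRingCat.of A)) : PrimeSpectrum A).asIdeal
      · obtain ⟨m, hm⟩ := h _ (mem_Pr hdim ha _ (fun h' => hne (PrimeSpectrum.ext h')) hay) y rfl _ (hg z y hy)
        refine ⟨m, ?_⟩
        simp only [Z]
        rw [eq_div_iff hφa, ← algebraMap_χ (π₀ A X) y, ← map_mul, ← hG z y hy, hm, mul_comm]
      · refine ⟨X.presheaf.germ (W z) y hy (g z) * (↑(isUnit_χ hay).unit⁻¹ : X.presheaf.stalk y), ?_⟩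
        simp only [Z]
        rw [eq_div_iff hφa, ← algebraMap_χ (π₀ A X) y, ← map_mul, ← hG z y hy, mul_assoc, IsUnit.val_inv_mul,
          mul_one])
    (fun z z' y hy hy' => by
      obtain ⟨m, hm⟩ := (hg z y hy).sub (hg z' y hy')
      refine ⟨m, ?_⟩
      have h' := congrArg (algebraMap (X.presheaf.stalk y) X.functionField) hm
      rw [map_sub, hG, hG, map_mul, algebraMap_χ] at h'
      simp only [Z]
      rw [← sub_div, h', mul_div_assoc, eq_comm, mul_comm, div_mul_cancel₀ _ hφa])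
  refine TopCat.Presheaf.section_ext (⟨(Q X a).presheaf, (Q X a).isSheaf⟩ : TopCat.Sheaf AddCommGrpCat.{u} X.toTopCat)
    ⊤ t 0 fun y _ => ?_
  show (Q X a).presheaf.germ ⊤ y trivial t = (Q X a).presheaf.germ ⊤ y trivial 0
  rw [map_zero]
  obtain ⟨m, hm⟩ := hneg y y (hxW y)
  rw [← hg y y (hxW y)]
  refine (st_π_eq_zero_iff y _).2 ⟨m, IsFractionRing.injective _ X.functionField ?_⟩
  rw [map_mul, algebraMap_χ, hG, hm, mul_comm]
  exact (div_mul_cancel₀ _ hφa).symm

include hdim hn hbir in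
/-- The length of the `a`-torsion of `H¹` is bounded by an invariant of the base. -/
theorem length_torsionBy_le (ha : a ≠ 0) (D : ∀ p : ↥(Pr a), Datum a (p : Ideal A)) :
    haveI : ∀ p : ↥(Pr a), (p : Ideal A).IsPrime := fun p => p.2.1.1.1
    Module.length A ↥(Submodule.torsionBy A (Coh.HH X (Coh.structureModule X) 1) a) ≤
      Module.length A ((∀ p : ↥(Pr a), A ⧸ Jp a (p : Ideal A)) ⧸
        LinearMap.range (LinearMap.pi fun p : ↥(Pr a) => (Submodule.mkQ (Jp a (p : Ideal A))).comp
          (LinearMap.mulLeft A (((D p).s₀ * (D p).c) ^ (D p).e)))) := by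
  classical
  haveI : ∀ p : ↥(Pr a), (p : Ideal A).IsPrime := fun p => p.2.1.1.1
  choose x hx using fun p : ↥(Pr a) => exists_point hdim hbir (p : Ideal A) p.2.2
  let s : ↥(Pr a) → A := fun p => ((D p).s₀ * (D p).c) ^ (D p).e
  have hrep : ∀ (t : Γ(Q X a, ⊤)) (p : ↥(Pr a)), ∃ r : A, ∀ b, IsComp t (x p) b →
      ∃ m, χ (π₀ A X) (x p) (s p) * b = χ (π₀ A X) (x p) r + χ (π₀ A X) (x p) a * m := by
    intro t p
    obtain ⟨b₀, hb₀⟩ := exists_isComp t (x p)
    obtain ⟨r, m, hrm⟩ := exists_rep hdim hn hbir (D p) p.2.2 (hx p) (D p).e 0 (Nat.zero_add _) t b₀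
      (by rw [pow_zero, map_one, one_mul]; exact hb₀)
    rw [pow_zero, map_one, one_mul] at hrm
    refine ⟨r, fun b hb => ?_⟩
    obtain ⟨m', hm'⟩ := hb.sub hb₀
    exact ⟨m + χ (π₀ A X) (x p) (s p) * m', by linear_combination hrm + (χ (π₀ A X) (x p) (s p)) * hm'⟩
  choose r hr using hrep
  have huniq : ∀ (p : ↥(Pr a)) (r r' : A) (m m' : X.presheaf.stalk (x p)),
      χ (π₀ A X) (x p) r + χ (π₀ A X) (x p) a * m = χ (π₀ A X) (x p) r' + χ (π₀ A X) (x p) a * m' →
        r - r' ∈ Jp a (p : Ideal A) := by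
    intro p r r' m m' h
    letI := (χ (π₀ A X) (x p)).toAlgebra
    haveI : IsLocalization.AtPrime (X.presheaf.stalk (x p)) (p : Ideal A) := by
      have h' := isLocalization_χ hdim hbir (y := x p) fun h'' => p.2.2 (by
        rw [hx p] at h''; exact congrArg PrimeSpectrum.asIdeal h'')
      rw [hx p] at h'
      exact h'
    have hmem : algebraMap A (X.presheaf.stalk (x p)) (r - r') ∈ (Ideal.span {a}).map (algebraMap A (X.presheaf.stalk (x p))) := by
      rw [Ideal.map_span, Set.image_singleton, Ideal.mem_span_singleton']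
      exact ⟨m' - m, by
        show _ = χ (π₀ A X) (x p) (r - r')
        rw [map_sub]
        show (m' - m) * χ (π₀ A X) (x p) a = _
        linear_combination -h⟩
    rw [IsLocalization.algebraMap_mem_map_algebraMap_iff (p : Ideal A).primeCompl] at hmem
    exact mem_Jp_iff.2 hmem
  -- the sections of the quotient
  have hT : IsTerminal (⊤ : X.Opens) := IsTerminal.ofUniqueHom (fun U => homOfLE le_top) fun _ _ => Subsingleton.elim _ _
  let e₀ := Sheaf.H.equiv₀ (Coh.toAb (Q X a)) hT
  have he₀ : ∀ (c : A) (w : Coh.HH X (Q X a) 0), (show Γ(Q X a, ⊤) from e₀ (c • w)) =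
      (show Γ(X, ⊤) from Coh.toGlobal (π₀ A X) c) • (show Γ(Q X a, ⊤) from e₀ w) := fun c w => by
    show e₀ (Sheaf.H.map (Coh.smulAb (Q X a) _) 0 w) = _
    rw [← Sheaf.H.equiv₀_naturality]
    refine (Coh.smulAb_app (Q X a) _ (Opposite.op ⊤) _).trans ?_
    congr 1
    simp [Coh.resTop]
  let sec : Coh.HH X (Q X a) 0 → Γ(Q X a, ⊤) := fun w => e₀ w
  let Ψ : Coh.HH X (Q X a) 0 →ₗ[A] ∀ p : ↥(Pr a), A ⧸ Jp a (p : Ideal A) :=
    { toFun := fun w p => Submodule.Quotient.mk (r (sec w) p)
      map_add' := fun w w' => funext fun p => by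
        show (Submodule.Quotient.mk (r (sec (w + w')) p) : A ⧸ Jp a (p : Ideal A)) =
          Submodule.Quotient.mk (r (sec w) p) + Submodule.Quotient.mk (r (sec w') p)
        rw [← Submodule.Quotient.mk_add, Submodule.Quotient.eq]
        obtain ⟨b, hb⟩ := exists_isComp (sec w) (x p)
        obtain ⟨b', hb'⟩ := exists_isComp (sec w') (x p)
        obtain ⟨m, hm⟩ := hr _ p b hb
        obtain ⟨m', hm'⟩ := hr _ p b' hb'
        obtain ⟨m'', hm''⟩ := hr _ p (b + b') (show IsComp (sec (w + w')) (x p) (b + b') by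
          rw [show sec (w + w') = sec w + sec w' from map_add e₀ w w']
          exact hb.add hb')
        refine huniq p _ _ m'' (m + m') ?_
        rw [map_add]
        linear_combination hm + hm' - hm''
      map_smul' := fun c w => funext fun p => by
        show (Submodule.Quotient.mk (r (sec (c • w)) p) : A ⧸ Jp a (p : Ideal A)) =
          c • (Submodule.Quotient.mk (r (sec w) p) : A ⧸ Jp a (p : Ideal A))
        rw [← Submodule.Quotient.mk_smul, Submodule.Quotient.eq, smul_eq_mul]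
        obtain ⟨b, hb⟩ := exists_isComp (sec w) (x p)
        obtain ⟨m, hm⟩ := hr _ p b hb
        obtain ⟨m', hm'⟩ := hr _ p (χ (π₀ A X) (x p) c * b) (show IsComp (sec (c • w)) (x p) _ by
          rw [show sec (c • w) = _ from he₀ c w]
          exact hb.smul c)
        refine huniq p _ _ m' (χ (π₀ A X) (x p) c * m) ?_
        rw [map_mul]
        linear_combination (χ (π₀ A X) (x p) c) * hm - hm' }
  haveI : Mono (μ X a) := by
    refine (Groth.L21.Mod.mono_iff_stalk_injective _).2 fun y => ?_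
    intro v v' hvv
    obtain ⟨c, rfl⟩ := (bijective_smul_one y).2 v
    obtain ⟨c', rfl⟩ := (bijective_smul_one y).2 v'
    have h1 : (c * χ (π₀ A X) y a) • one X y = (c' * χ (π₀ A X) y a) • one X y :=
      (Groth.L05.RatPow.st_mulBy_smul _ y c).symm.trans (hvv.trans (Groth.L05.RatPow.st_mulBy_smul _ y c'))
    rw [mul_right_cancel₀ (χ_ne_zero hbir y ha) ((bijective_smul_one y).1 h1)]
  have hS : (ShortComplex.mk (μ X a) (cokernel.π _) (cokernel.condition _)).ShortExact :=
    { exact := ShortComplex.exact_of_g_is_cokernel _ (cokernelIsCokernel _)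
      mono_f := inferInstance
      epi_g := inferInstance }
  let δ := Groth.L16.CohLinear.overLin A (Groth.L16.CohLinear.delta hS 0)
  have hμ : ∀ w : Coh.HH X (Coh.structureModule X) 1, Groth.L16.CohLinear.hmap (μ X a) 1 w = a • w := by
    intro w
    show Sheaf.H.map (Groth.L16.CohLinear.tm (μ X a)) 1 w = Sheaf.H.map (Coh.smulAb (Coh.structureModule X) _) 1 w
    have hmor : Groth.L16.CohLinear.tm (μ X a) =
        Coh.smulAb (Coh.structureModule X) (Coh.toGlobal (π₀ A X) a) := by
      ext U v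
      refine Eq.trans ?_ (Coh.smulAb_app (Coh.structureModule X) (Coh.toGlobal (π₀ A X) a) U v).symm
      show (μ X a).app U.unop v = _
      rw [Groth.L18.GenLoc.app_eq]
      show (show Γ(X, U.unop) from v) * _ = _ * (show Γ(X, U.unop) from v)
      rw [mul_comm]
      congr 1
      rw [show Groth.L18.GenLoc.secOf (μ X a) = _ from Groth.L18.GenLoc.secOf_homOfSection _]
      rfl
    rw [hmor]
    rfl
  have hrange : LinearMap.range δ = Submodule.torsionBy A (Coh.HH X (Coh.structureModule X) 1) a := by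
    ext w
    rw [Submodule.mem_torsionBy_iff, LinearMap.mem_range, ← hμ]
    exact ((Groth.L16.CohLinear.exact_delta_hmap hS 0) w).symm
  have hker : ((LinearMap.range (LinearMap.pi fun p : ↥(Pr a) => (Submodule.mkQ (Jp a (p : Ideal A))).comp
      (LinearMap.mulLeft A (s p)))).comap Ψ) ≤ LinearMap.ker δ := by
    rintro w ⟨c, hc⟩
    rw [LinearMap.mem_ker]
    refine ((Groth.L16.CohLinear.exact_hmap_delta hS 0) w).2 ?_
    let e₁ := Sheaf.H.equiv₀ (Coh.toAb (Coh.structureModule X)) hT
    refine ⟨e₁.symm (show Γ(Coh.structureModule X, ⊤) from Coh.toGlobal (π₀ A X) c), e₀.injective ?_⟩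
    rw [Groth.L16.CohLinear.hmap_apply, ← Sheaf.H.equiv₀_naturality, AddEquiv.apply_symm_apply]
    symm
    show sec w = (cokernel.π (μ X a)).app ⊤ (show Γ(Coh.structureModule X, ⊤) from Coh.toGlobal (π₀ A X) c)
    rw [← sub_eq_zero]
    refine eq_zero_of_isComp hdim hn hbir ha _ fun P hP y hy b hb => ?_
    let p : ↥(Pr a) := ⟨P, hP⟩
    obtain rfl : y = x p := eq_of_apply_eq hdim hbir (fun h => p.2.2 (hy.symm.trans (congrArg PrimeSpectrum.asIdeal h)))
      (Eq.trans (PrimeSpectrum.ext hy) (hx p).symm)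
    have hb' : IsComp (sec w) (x p) (b + χ (π₀ A X) (x p) c) := by
      have h' := hb.add (isComp_global (a := a) c (x p))
      rwa [sub_add_cancel] at h'
    obtain ⟨m, hm⟩ := hr _ p _ hb'
    have h1 : (Submodule.Quotient.mk (s p * c) : A ⧸ Jp a (p : Ideal A)) = Submodule.Quotient.mk (r (sec w) p) :=
      congrFun hc p
    rw [Submodule.Quotient.eq, mem_Jp_iff] at h1
    obtain ⟨u, hu, hu'⟩ := h1
    obtain ⟨v, hv⟩ := Ideal.mem_span_singleton'.1 hu'
    have hup : ∀ w ∉ (p : Ideal A), IsUnit (χ (π₀ A X) (x p) w) := fun w hw => isUnit_χ (by rw [hx p]; exact hw)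
    have hsp : s p ∉ (p : Ideal A) := fun h => by
      rcases p.2.1.1.1.mem_or_mem (p.2.1.1.1.mem_of_pow_mem _ h) with h | h
      · exact (D p).s₀_notMem h
      · exact (D p).c_notMem h
    refine ⟨(↑((hup u hu).mul (hup _ hsp)).unit⁻¹ : X.presheaf.stalk (x p)) *
      (χ (π₀ A X) (x p) u * m - χ (π₀ A X) (x p) v), ?_⟩
    refine (((hup u hu).mul (hup _ hsp)).mul_left_inj).1 ?_
    have hv' := congrArg (χ (π₀ A X) (x p)) hv
    simp only [map_mul, map_sub] at hv'
    have e1 := ((hup u hu).mul (hup _ hsp)).val_inv_mul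
    linear_combination (χ (π₀ A X) (x p) u) * hm + hv'
      - (χ (π₀ A X) (x p) a * (χ (π₀ A X) (x p) u * m - χ (π₀ A X) (x p) v)) * e1
  rw [← hrange, ← δ.quotKerEquivRange.length_eq]
  refine le_trans (Module.length_le_of_surjective (Submodule.factor hker) (Submodule.factor_surjective hker)) ?_
  refine Module.length_le_of_injective (Submodule.mapQ _ _ Ψ le_rfl) ?_
  rw [← LinearMap.ker_eq_bot, Submodule.ker_mapQ]
  exact Submodule.mkQ_map_self _

end Groth.L05.H1Tors
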